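import Groth.Agent.CohProp.K990.RepLoc
import Groth.Agent.Etbc.H235.BCSets
import Groth.Agent.EtAcyc.K548.LC

/-!
# Charts of étale sheaves of sets and stalks

* `chartOfGerm`: a family of sections inducing bijections on all stalks is a chart.
* `Chart.germ_bijective`: a chart induces bijections on stalks.
* `chartPull`: inverse image of a chart.
* `germ_push_eq_of_cohProp`: for a cohomologically proper pair, equality of germs of `f_* F` can be tested
  on the geometric fibre.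
-/

set_option autoImplicit false
universe u

open CategoryTheory CategoryTheory.Limits AlgebraicGeometry Opposite

namespace K145.ChartStk

open EtDesc Groth.Agent.Sga4A.EtStalk Groth.Agent.Sga4A.PbcAb Groth.Agent.Etbc.H235.BCSets
  Groth.Agent.Etbc.H235.BCSec
open K990.CohProp (Chart)

section Charts

variable {X : Scheme.{u}} {F : Sh X} {U : X.Etale} {M : Type (u + 1)}

/-- Charts from bijectivity on stalks. -/
def chartOfGerm (φ : M → sect F U)
    (h : ∀ (Ω : Type u) [Field Ω] [IsSepClosed Ω] (l : Spec (.of Ω) ⟶ U.left)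
      (ξ : Spec (.of Ω) ⟶ X) (hl : l ≫ U.hom = ξ),
      Function.Bijective (fun m => germ F l hl (φ m))) : Chart F U M where
  φ := φ
  inj T x t m m' e := by
    obtain ⟨Ω, _, _, l, hl⟩ := exists_geomPoint T.left t
    have hx : x.left ≫ U.hom = T.hom := Over.w x.hom
    have hl' : (l ≫ x.left) ≫ U.hom = l ≫ T.hom := by rw [Category.assoc, hx]
    apply (h Ω (l ≫ x.left) (l ≫ T.hom) hl').1
    have h1 := congrArg (fun s => germ F l (ξ := l ≫ T.hom) rfl s) e
    simp only at h1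
    rw [germ_res' F x l rfl (l ≫ x.left) hl' rfl, germ_res' F x l rfl (l ≫ x.left) hl' rfl] at h1
    exact h1
  surj T x t s := by
    obtain ⟨Ω, _, _, l, rfl⟩ := exists_geomPoint T.left t
    have hx : x.left ≫ U.hom = T.hom := Over.w x.hom
    have hl' : (l ≫ x.left) ≫ U.hom = l ≫ T.hom := by rw [Category.assoc, hx]
    obtain ⟨m, hm⟩ := (h Ω (l ≫ x.left) (l ≫ T.hom) hl').2 (germ F l rfl s)
    simp only at hm
    rw [← germ_res' F x l rfl (l ≫ x.left) hl' rfl] at hm
    obtain ⟨V, g, n, hn, e⟩ := (germ_eq_iff F l rfl _ _).1 hm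
    refine ⟨m, V, g, n default, ?_, ?_⟩
    · rw [← hn]
      exact (Scheme.Hom.comp_apply _ _ _).symm
    · rw [← e, op_comp, Functor.map_comp_apply]

/-- A chart as a chart in the sense of `K548.LC`. -/
def toLC (c : Chart F U M) : K548.LC.Chart F U where
  M := M
  e := c.φ
  surj W g s w := by
    obtain ⟨m, V, f, t', ht', h⟩ := c.surj W g w s
    exact ⟨V, f, t', ht', m, h⟩
  inj W g m m' hW h := by
    obtain ⟨w⟩ := hW
    exact c.inj W g w m m' h

theorem germ_bijective (c : Chart F U M) (Ω : Type u) [Field Ω] [IsSepClosed Ω]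
    (l : Spec (.of Ω) ⟶ U.left) (ξ : Spec (.of Ω) ⟶ X) (hl : l ≫ U.hom = ξ) :
    Function.Bijective (fun m => germ F l hl (c.φ m : sect F U)) := by
  constructor
  · intro m m' h
    obtain ⟨V, g, n, hn, e⟩ := (germ_eq_iff F l hl _ _).1 h
    exact c.inj V g (n default) m m' e
  · intro σ
    exact (toLC c).exists_germ l hl σ

variable {Y : Scheme.{u}} (g : Y ⟶ X)

/-- Inverse image of a chart. -/
noncomputable def chartPull (c : Chart F U M) :
    Chart ((pullSh g).obj F) ((EtCoh.bc g).obj U) M :=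
  chartOfGerm (fun m => pullSect g F (c.φ m)) (by
    intro Ω _ _ l ξ' hl
    have hc : (l ≫ bcFst g U) ≫ U.hom = ξ' ≫ g := by
      rw [Category.assoc, bc_condition, ← Category.assoc, hl]
    have h1 : (fun m => germ ((pullSh g).obj F) l hl (pullSect g F (c.φ m))) =
        pullStk' g F ξ' (ξ' ≫ g) rfl ∘
          (fun m => germ F (l ≫ bcFst g U) hc (c.φ m : sect F U)) := by
      funext m
      exact germ_pullSect g F (c.φ m) l ξ' hl (ξ' ≫ g) hc
    rw [h1]
    exact (pullStk' g F ξ' (ξ' ≫ g) rfl).bijective.comp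
      (germ_bijective c Ω (l ≫ bcFst g U) (ξ' ≫ g) hc))

end Charts

section Proper

variable {X S : Scheme.{u}} (f : X ⟶ S) {F : Sh X}

/-- For a cohomologically proper pair `(F, f)`, sections of `F` near the geometric fibre which have the
same germs along the geometric fibre agree over an étale neighbourhood of the geometric point. -/
theorem germ_push_eq_of_cohProp (hcp : CohProp.IsCohPropSet (𝟙 S) f F)
    {Ω : Type u} [Field Ω] [IsSepClosed Ω] {ξ : Spec (.of Ω) ⟶ S} {U : S.Etale}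
    (l : Spec (.of Ω) ⟶ U.left) (hl : l ≫ U.hom = ξ) (a b : sect F ((EtCoh.bc f).obj U))
    (h : ∀ (Ω' : Type u) [Field Ω'] [IsSepClosed Ω'] (ζ : Spec (.of Ω') ⟶ pullback f ξ)
      (ρ : Spec (.of Ω') ⟶ X) (hρ : (ζ ≫ fibInc f ξ l hl) ≫ ((EtCoh.bc f).obj U).hom = ρ),
      germ F (ζ ≫ fibInc f ξ l hl) hρ a = germ F (ζ ≫ fibInc f ξ l hl) hρ b) :
    germ ((pushSh f).obj F) l hl (toPush f F a) = germ ((pushSh f).obj F) l hl (toPush f F b) := by
  have sq : IsPullback (pullback.fst f ξ) (pullback.snd f ξ) f ξ := IsPullback.of_hasPullback f ξ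
  have hiso : IsIso (EtBC.baseChange0Sh f ξ (pullback.snd f ξ) (pullback.fst f ξ) sq.w F) :=
    hcp ξ ξ (𝟙 _) (pullback.fst f ξ) (pullback.snd f ξ) (IsPullback.of_id_snd) sq
  have hbij := mapStk_bijective_of_isIso
    (EtBC.baseChange0Sh f ξ (pullback.snd f ξ) (pullback.fst f ξ) sq.w F) (𝟙 (Spec (.of Ω)))
  have hl1 : l ≫ U.hom = 𝟙 _ ≫ ξ := by rw [hl, Category.id_comp]
  -- the germs at `𝟙 ≫ ξ`
  suffices hs : germ ((pushSh f).obj F) l hl1 (toPush f F a) =
      germ ((pushSh f).obj F) l hl1 (toPush f F b) by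
    have h1 := congrArg (castStk ((pushSh f).obj F) (Category.id_comp ξ)) hs
    rw [castStk_germ, castStk_germ] at h1
    exact h1
  apply (pullStk ξ ((pushSh f).obj F) (𝟙 _)).injective
  apply hbij.1
  rw [mapStk_baseChange0Sh, mapStk_baseChange0Sh]
  set f' := pullback.snd f ξ with hf'
  set g' := pullback.fst f ξ with hg'
  -- restrict to the section `Spec Ω → U ×_S Spec Ω`
  let k : EtCoh.top (Spec (.of Ω)) ⟶ (EtCoh.bc ξ).obj U :=
    MorphismProperty.Over.homMk (bcPt ξ (𝟙 _) l hl1) (bcPt_hom ξ (𝟙 _) l hl1) trivial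
  have hk : k.left = bcPt ξ (𝟙 _) l hl1 := rfl
  have e1 : ∀ s : sect F ((EtCoh.bc f).obj U),
      germ ((pushSh f').obj ((pullSh g').obj F)) (bcPt ξ (𝟙 _) l hl1) (bcPt_hom ξ (𝟙 _) l hl1)
        (toPush f' _ (((pullSh g').obj F).obj.map (bcSq f ξ f' g' sq.w U).op (pullSect g' F s))) =
      germ ((pushSh f').obj ((pullSh g').obj F)) (U := EtCoh.top (Spec (.of Ω)))
        (topPt (𝟙 (Spec (.of Ω)))) (topPt_hom _)
        (toPush f' _ (((pullSh g').obj F).obj.map ((EtCoh.bc f').map k).op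
          (((pullSh g').obj F).obj.map (bcSq f ξ f' g' sq.w U).op (pullSect g' F s)))) := by
    intro s
    rw [← toPush_res]
    refine (germ_res' _ k _ _ _ _ ?_ _).symm
    rw [hk]
    exact Category.id_comp _
  rw [e1, e1]
  congr 2
  refine sect_ext_germ' _ _ _ _ (fun Ω' _ _ m => ?_)
  -- a geometric point of the fibre
  let ζ₁ : Spec (.of Ω') ⟶ ((EtCoh.bc f').obj ((EtCoh.bc ξ).obj U)).left :=
    m ≫ ((EtCoh.bc f').map k).left
  let ρ : Spec (.of Ω') ⟶ pullback f ξ := m ≫ ((EtCoh.bc f').obj (EtCoh.top (Spec (.of Ω)))).hom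
  have hρ : ζ₁ ≫ ((EtCoh.bc f').obj ((EtCoh.bc ξ).obj U)).hom = ρ := by
    rw [Category.assoc, bc_map_hom]
  have hρf : ρ ≫ f' = m ≫ bcFst f' (EtCoh.top (Spec (.of Ω))) := by
    have h1 : ((EtCoh.bc f').obj (EtCoh.top (Spec (.of Ω)))).hom ≫ f' =
        bcFst f' (EtCoh.top (Spec (.of Ω))) := by
      rw [← bc_condition]
      exact Category.comp_id _
    exact (Category.assoc _ _ _).trans (congrArg (m ≫ ·) h1)
  have hθ : (ρ ≫ fibInc f ξ l hl) ≫ ((EtCoh.bc f).obj U).hom = ρ ≫ g' := by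
    rw [Category.assoc, fibInc_hom]
  have hθ' : (ρ ≫ fibInc f ξ l hl) ≫ bcFst f U =
      ζ₁ ≫ bcFst f' ((EtCoh.bc ξ).obj U) ≫ bcFst ξ U := by
    have h2 : ζ₁ ≫ bcFst f' ((EtCoh.bc ξ).obj U) ≫ bcFst ξ U =
        m ≫ bcFst f' (EtCoh.top (Spec (.of Ω))) ≫ k.left ≫ bcFst ξ U := by
      rw [Category.assoc, ← Category.assoc ((EtCoh.bc f').map k).left, bc_map_fst, Category.assoc]
    rw [Category.assoc, fibInc_fst, ← Category.assoc, hρf, h2, hk]
    exact (Category.assoc _ _ _).trans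
      (congrArg (fun z => m ≫ bcFst f' (EtCoh.top (Spec (.of Ω))) ≫ z) (bcPt_fst ξ (𝟙 _) l hl1).symm)
  have e2 : ∀ s : sect F ((EtCoh.bc f).obj U),
      germ ((pullSh g').obj F) m rfl (((pullSh g').obj F).obj.map ((EtCoh.bc f').map k).op
          (((pullSh g').obj F).obj.map (bcSq f ξ f' g' sq.w U).op (pullSect g' F s))) =
      pullStk' g' F ρ (ρ ≫ g') rfl (germ F (ρ ≫ fibInc f ξ l hl) hθ s) := by
    intro s
    rw [germ_res' _ ((EtCoh.bc f').map k) m rfl ζ₁ hρ rfl]
    exact germ_bcSq f ξ f' g' sq.w F s ζ₁ ρ hρ _ hθ hθ'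
  rw [e2, e2]
  congr 1
  exact h Ω' ρ _ _

end Proper

end K145.ChartStk
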