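import Groth.Agent.S0420
import Groth.Agent.Sga4A.PbcAb

/-!
# Partition of a scheme of finite type near the generic point of the base

`exists_partition`: if the generic fibre is a finite union of geometrically irreducible closed pieces, then over a
nonempty open of the base the scheme is a finite disjoint union of closed pieces, all of whose fibres are
geometrically connected.
`exists_partition_etale`: this holds after a finite étale base change over a nonempty open.
-/

set_option autoImplicit false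
universe u

open AlgebraicGeometry CategoryTheory Limits

namespace K145.GeomPart

open Groth.Agent Groth.Agent.Flat2D.ConnSpread

lemma reflTransGen_sub {ι : Type*} (r : ι → ι → Prop) (hs : ∀ i j, r i j → r j i) {i j : ι}
    (h : Relation.EqvGen r i j) : Relation.ReflTransGen r i j := by
  induction h with
  | rel x y h => exact Relation.ReflTransGen.single h
  | refl x => exact Relation.ReflTransGen.refl
  | symm x y _ ih =>
    exact Relation.ReflTransGen.mono (fun a b hab => hs b a hab) _ _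
      (Relation.reflTransGen_swap.mpr ih)
  | trans x y z _ _ h1 h2 => exact h1.trans h2

lemma reflTransGen_class {ι : Type*} (r : ι → ι → Prop) (c : Quot r) {i j : ι}
    (h : Relation.ReflTransGen r i j) (hi : Quot.mk r i = c) :
    ∀ hj : Quot.mk r j = c, Relation.ReflTransGen
      (fun a b : {k : ι // Quot.mk r k = c} => r a.1 b.1) ⟨i, hi⟩ ⟨j, hj⟩ := by
  induction h with
  | refl => intro hj; exact Relation.ReflTransGen.refl
  | @tail b d _ hbd ih =>
    intro hj
    have hb : Quot.mk r b = c := (Quot.sound hbd).trans hj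
    exact (ih hb).tail hbd

/-- **Partition near the generic point.** -/
theorem exists_partition {X Y : Scheme.{u}} (f : X ⟶ Y) [IrreducibleSpace Y]
    [LocallyOfFiniteType f] [QuasiCompact f] {ι : Type u} [Finite ι] (W : ι → Set X)
    (hW : ∀ i, IsClosed (W i)) (hirr : ∀ i, GeomIrrAt f (W i) (genericPoint Y))
    (hcov : ∀ x, f x = genericPoint Y → ∃ i, x ∈ W i) :
    ∃ (V : Y.Opens) (_ : (V : Set Y).Nonempty) (J : Type u) (_ : Finite J) (P : J → Set X),
      (∀ j, IsClosed (P j)) ∧ (∀ x, f x ∈ V → ∃ j, x ∈ P j) ∧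
      (∀ x, f x ∈ V → ∀ j j', x ∈ P j → x ∈ P j' → j = j') ∧
      ∀ y ∈ V, ∀ (j : J) ⦃K : Type u⦄ [Field K] (z : Spec (.of K) ⟶ Spec (Y.residueField y))
        ⦃Z : Scheme.{u}⦄ (fst : Z ⟶ X) (snd : Z ⟶ Spec (.of K)),
        IsPullback fst snd f (z ≫ Y.fromSpecResidueField y) → _root_.IsConnected (fst ⁻¹' P j) := by
  let T : ι → Set (f.fiber (genericPoint Y)) := fun i => f.fiberι (genericPoint Y) ⁻¹' (W i)
  have hfib : ∀ x : f.fiber (genericPoint Y), f (f.fiberι (genericPoint Y) x) = genericPoint Y := by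
    intro x
    have := (f.range_fiberι (genericPoint Y)).le ⟨x, rfl⟩
    exact this
  let r : ι → ι → Prop := fun i j => (T i ∩ T j).Nonempty
  have hrs : ∀ i j, r i j → r j i := fun i j h => by
    change (T j ∩ T i).Nonempty
    rw [Set.inter_comm]
    exact h
  -- spread out irreducibility
  obtain ⟨V1, hV1, H1⟩ := S0420.exists_opens_of_finite (fun i y => GeomIrrAt f (W i) y)
    (fun i => S0420.exists_opens_geomIrrAt f (W i) (hW i) (hirr i))
  -- spread out the intersections
  obtain ⟨V2, hV2, H2⟩ := S0420.exists_opens_of_finite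
    (fun (p : {p : ι × ι // (T p.1 ∩ T p.2).Nonempty}) y => y ∈ f '' (W p.1.1 ∩ W p.1.2)) (by
      rintro ⟨⟨i, j⟩, ⟨x, hx1, hx2⟩⟩
      exact S0420.exists_opens_subset_image_of_isClosed f (W i ∩ W j) ((hW i).inter (hW j)) _
        ⟨hx1, hx2⟩ (hfib x))
  -- spread out the covering
  obtain ⟨V3, hV3, H3⟩ := Flat2D.GenFibTop.exists_opens_preimage_subset_closure f
  have H3' : ∀ x, f x ∈ V3 → ∃ i, x ∈ W i := by
    intro x hx
    have h1 : closure (f ⁻¹' {genericPoint Y}) ⊆ ⋃ i, W i :=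
      closure_minimal (fun x hx => Set.mem_iUnion.mpr (hcov x hx)) (isClosed_iUnion_of_finite hW)
    exact Set.mem_iUnion.mp (h1 (H3 x hx))
  -- spread out the disjointness
  obtain ⟨V4, hV4, H4⟩ := S0420.exists_opens_of_finite
    (fun (p : {p : ι × ι // ¬ (T p.1 ∩ T p.2).Nonempty}) y => ∀ x, f x = y → x ∉ W p.1.1 ∩ W p.1.2) (by
      rintro ⟨⟨i, j⟩, hij⟩
      obtain ⟨V, hV, H⟩ := Flat2D.GenFibTop.exists_opens_disjoint_of_isClosed f (W i ∩ W j)
        ((hW i).inter (hW j)) (by
          rintro x ⟨hx1, hx2⟩ hfx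
          obtain ⟨t, rfl⟩ := (f.range_fiberι (genericPoint Y)).ge hfx
          exact hij ⟨t, hx1, hx2⟩)
      exact ⟨V, hV, fun y hy x hx => H x (hx ▸ hy)⟩)
  refine ⟨V1 ⊓ V2 ⊓ V3 ⊓ V4, ⟨genericPoint Y, ⟨⟨⟨Flat2D.GenFibTop.genericPoint_mem _ hV1,
    Flat2D.GenFibTop.genericPoint_mem _ hV2⟩, Flat2D.GenFibTop.genericPoint_mem _ hV3⟩,
    Flat2D.GenFibTop.genericPoint_mem _ hV4⟩⟩, Quot r, inferInstance,
    fun c => ⋃ i : {k : ι // Quot.mk r k = c}, W i.1, ?_, ?_, ?_, ?_⟩
  · intro c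
    exact isClosed_iUnion_of_finite fun i => hW i.1
  · intro x hx
    obtain ⟨i, hi⟩ := H3' x hx.1.2
    exact ⟨Quot.mk r i, Set.mem_iUnion.mpr ⟨⟨i, rfl⟩, hi⟩⟩
  · intro x hx c c' hc hc'
    obtain ⟨⟨i, rfl⟩, hi⟩ := Set.mem_iUnion.mp hc
    obtain ⟨⟨i', rfl⟩, hi'⟩ := Set.mem_iUnion.mp hc'
    apply Quot.sound
    by_contra hn
    exact H4 ⟨(i, i'), hn⟩ (f x) hx.2 x rfl ⟨hi, hi'⟩
  · intro y hy c K _ z Z fst snd h
    have h3 : fst ⁻¹' (⋃ i : {k : ι // Quot.mk r k = c}, W i.1) =
        ⋃ i : {k : ι // Quot.mk r k = c}, fst ⁻¹' (W i.1) := Set.preimage_iUnion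
    rw [h3]
    have hne : Nonempty {k : ι // Quot.mk r k = c} := by
      obtain ⟨i, rfl⟩ := Quot.exists_rep c
      exact ⟨⟨i, rfl⟩⟩
    refine IsConnected.iUnion_of_reflTransGen (fun i => (H1 i.1 y hy.1.1.1 z _ _ h).isConnected) ?_
    rintro ⟨i, hi⟩ ⟨j, hj⟩
    have hg : Relation.EqvGen r i j := Quot.eqvGen_exact (hi.trans hj.symm)
    refine Relation.ReflTransGen.mono ?_ _ _
      (reflTransGen_class r c (reflTransGen_sub r hrs hg) hi hj)
    rintro ⟨i, hi⟩ ⟨j, hj⟩ hij
    obtain ⟨x, ⟨hx1, hx2⟩, hxy⟩ := H2 ⟨(i, j), hij⟩ y hy.1.1.2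
    obtain ⟨w, hw, -⟩ := Scheme.exists_preimage_of_isPullback h x (IsLocalRing.closedPoint K) (by
      rw [hxy, Scheme.Hom.comp_apply]
      exact (Scheme.fromSpecResidueField_apply _ _).symm)
    refine ⟨w, ?_, ?_⟩
    · rw [Set.mem_preimage, hw]
      exact hx1
    · rw [Set.mem_preimage, hw]
      exact hx2

/-- The closed pieces of the source attached to the irreducible components of the generic fibre. -/
theorem exists_pieces {X Y : Scheme.{u}} (f : X ⟶ Y) [IrreducibleSpace Y]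
    [LocallyOfFiniteType f] [QuasiCompact f]
    (H : ∀ (Z : Set ↑(f.fiber (genericPoint ↑Y))) (hZ : Z ∈ irreducibleComponents ↑(f.fiber (genericPoint ↑Y))),
        GeometricallyIrreducible ((Scheme.IdealSheafData.vanishingIdeal (⟨Z, isClosed_of_mem_irreducibleComponents Z hZ⟩ : TopologicalSpace.Closeds _)).subschemeι ≫
          f.fiberToSpecResidueField (genericPoint ↑Y))) :
    ∃ (ι : Type u) (_ : Finite ι) (W : ι → Set X), (∀ i, IsClosed (W i)) ∧
      (∀ i, GeomIrrAt f (W i) (genericPoint Y)) ∧ ∀ x, f x = genericPoint Y → ∃ i, x ∈ W i := by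
  have hlft : LocallyOfFiniteType (f.fiberToSpecResidueField (genericPoint Y)) :=
    MorphismProperty.of_isPullback (isPullback_fiber f _) inferInstance
  have hN : IsLocallyNoetherian (f.fiber (genericPoint Y)) :=
    LocallyOfFiniteType.isLocallyNoetherian (f.fiberToSpecResidueField (genericPoint Y))
  have hc : CompactSpace (f.fiber (genericPoint Y)) := inferInstance
  have hNS : IsNoetherian (f.fiber (genericPoint Y)) := {}
  have hfin : (irreducibleComponents (f.fiber (genericPoint Y))).Finite :=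
    TopologicalSpace.NoetherianSpace.finite_irreducibleComponents
  have : Finite (irreducibleComponents (f.fiber (genericPoint Y))) := hfin
  have hpre : ∀ Z : irreducibleComponents (f.fiber (genericPoint Y)),
      (Z : Set (f.fiber (genericPoint Y))) =
        f.fiberι (genericPoint Y) ⁻¹' (closure (f.fiberι (genericPoint Y) '' Z)) := by
    intro Z
    rw [← (f.fiberι (genericPoint Y)).isEmbedding.isInducing.closure_eq_preimage_closure_image]
    exact (isClosed_of_mem_irreducibleComponents _ Z.2).closure_eq.symm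
  refine ⟨irreducibleComponents (f.fiber (genericPoint Y)), this,
    fun Z => closure (f.fiberι (genericPoint Y) '' Z), fun Z => isClosed_closure, ?_, ?_⟩
  · intro Z
    have := H Z.1 Z.2
    refine geomIrrAt_of_fiber f _ (Scheme.IdealSheafData.vanishingIdeal
      (⟨Z.1, isClosed_of_mem_irreducibleComponents Z.1 Z.2⟩ : TopologicalSpace.Closeds _)).subschemeι _ ?_
    rw [← hpre]
    exact S0420.range_subschemeι _ _
  · intro x hx
    obtain ⟨t, rfl⟩ := (f.range_fiberι (genericPoint Y)).ge hx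
    refine ⟨⟨irreducibleComponent t, irreducibleComponent_mem_irreducibleComponents t⟩, ?_⟩
    exact subset_closure ⟨t, mem_irreducibleComponent, rfl⟩

open EtDesc Groth.Agent.Sga4A.EtStalk Groth.Agent.Sga4A.PbcAb in
/-- **Partition after an étale base change near the generic point.** -/
theorem exists_idx {X Y : Scheme.{u}} (f : X ⟶ Y) [IrreducibleSpace Y]
    [LocallyOfFiniteType f] [QuasiCompact f] :
    ∃ (U : Y.Etale) (_ : Nonempty U.left) (J : Type u) (_ : Finite J)
      (idx : ((EtCoh.bc f).obj U).left → J), (∀ j, IsOpen (idx ⁻¹' {j})) ∧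
      ∀ (Ω : Type u) [Field Ω] [IsSepClosed Ω] (τ : Spec (.of Ω) ⟶ U.left)
        (ξ : Spec (.of Ω) ⟶ Y) (hl : τ ≫ U.hom = ξ) (j : J),
        _root_.IsConnected (fibInc f ξ τ hl ⁻¹' (idx ⁻¹' {j})) := by
  obtain ⟨V, Y', g, hY', hV, hY'a, hgs, hgf, hge, H⟩ := S1357.result f
  obtain ⟨ι, _, W, hW, hirr, hcov⟩ := exists_pieces (pullback.snd f (g ≫ V.ι)) H
  obtain ⟨V', hV', J, _, P, hP, hP1, hP2, hP3⟩ :=
    exists_partition (pullback.snd f (g ≫ V.ι)) W hW hirr hcov
  let U : Y.Etale := Scheme.Etale.mk (V'.ι ≫ g ≫ V.ι)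
  let κ : ((EtCoh.bc f).obj U).left ⟶ pullback f (g ≫ V.ι) :=
    pullback.lift ((EtCoh.bc f).obj U).hom (bcFst f U ≫ V'.ι) (by
      rw [Category.assoc, ← bc_condition]
      rfl)
  have hκ1 : κ ≫ pullback.fst f (g ≫ V.ι) = ((EtCoh.bc f).obj U).hom := pullback.lift_fst _ _ _
  have hκ2 : κ ≫ pullback.snd f (g ≫ V.ι) = bcFst f U ≫ V'.ι := pullback.lift_snd _ _ _
  have hκV : ∀ w, pullback.snd f (g ≫ V.ι) (κ w) ∈ V' := by
    intro w
    rw [← Scheme.Hom.comp_apply, hκ2, Scheme.Hom.comp_apply]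
    exact (bcFst f U w).2
  choose idx hidx using fun w => hP1 (κ w) (hκV w)
  have hpre : ∀ j, idx ⁻¹' {j} = κ ⁻¹' (P j) := by
    intro j
    ext w
    constructor
    · rintro rfl
      exact hidx w
    · intro hw
      exact hP2 (κ w) (hκV w) _ _ (hidx w) hw
  refine ⟨U, ?_, J, inferInstance, idx, ?_, ?_⟩
  · obtain ⟨y, hy⟩ := hV'
    exact ⟨⟨y, hy⟩⟩
  · intro j
    have h1 : (idx ⁻¹' {j})ᶜ = ⋃ i : {k : J // k ≠ j}, κ ⁻¹' (P i.1) := by
      ext w
      simp only [Set.mem_compl_iff, Set.mem_preimage, Set.mem_singleton_iff, Set.mem_iUnion]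
      constructor
      · intro h
        exact ⟨⟨idx w, h⟩, hidx w⟩
      · rintro ⟨⟨i, hi⟩, hw⟩ rfl
        exact hi (hP2 (κ w) (hκV w) _ _ hw (hidx w))
    rw [← isClosed_compl_iff, h1]
    exact isClosed_iUnion_of_finite fun i => (hP i.1).preimage κ.continuous
  · intro Ω _ _ τ ξ hl j
    rw [hpre]
    have hpb : IsPullback (fibInc f ξ τ hl ≫ κ) (pullback.snd f ξ) (pullback.snd f (g ≫ V.ι))
        (τ ≫ V'.ι) := by
      refine IsPullback.of_right (h₁₂ := pullback.fst f (g ≫ V.ι)) (v₁₃ := f) (h₂₂ := g ≫ V.ι) ?_ ?_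
        (IsPullback.of_hasPullback f (g ≫ V.ι))
      · rw [Category.assoc, hκ1, fibInc_hom, Category.assoc]
        have h2 : τ ≫ V'.ι ≫ g ≫ V.ι = ξ := hl
        rw [h2]
        exact IsPullback.of_hasPullback f ξ
      · rw [Category.assoc, hκ2, fibInc_fst_assoc]
    obtain ⟨⟨y, φ⟩, hφ⟩ := (Scheme.SpecToEquivOfField Ω Y').symm.surjective (τ ≫ V'.ι)
    have hφ' : Spec.map φ ≫ Y'.fromSpecResidueField y = τ ≫ V'.ι := hφ
    have hy : y ∈ V' := by
      have h3 : (Spec.map φ ≫ Y'.fromSpecResidueField y) default = y := by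
        rw [Scheme.Hom.comp_apply]
        exact Scheme.fromSpecResidueField_apply _ _
      rw [← h3, hφ', Scheme.Hom.comp_apply]
      exact (τ default).2
    rw [← hφ'] at hpb
    exact hP3 y hy j (Spec.map φ) _ _ hpb

end K145.GeomPart
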