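import Groth.Agent.CohProp.K145.PushChart
import Groth.Agent.CohProp.K145.GeomPart

/-!
# The direct image of a constant sheaf of sets is generically finite locally constant

`main`: if `f : X ⟶ S` is of finite type with `S` irreducible, `M` a finite set and `(M_X, f)` is cohomologically
proper in dimension `≤ 0`, then `f_* M_X` is finite locally constant over a nonempty open of `S`.
-/

set_option autoImplicit false
universe u

open CategoryTheory CategoryTheory.Limits AlgebraicGeometry Opposite

namespace K145.NodeD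

open EtDesc Groth.Agent.Sga4A.EtStalk

theorem main' {X S : Scheme.{u}} [IrreducibleSpace S] (f : X ⟶ S)
    [LocallyOfFiniteType f] [QuasiCompact f] (M : Type (u + 1)) [Finite M]
    (hcp : CohProp.IsCohPropSet (𝟙 S) f (CohProp.constSh X M)) :
    ∃ V : S.Opens, (V : Set S).Nonempty ∧ CohProp.IsFinLocConstSet
      ((EtDesc.pullSh V.ι).obj ((EtDesc.pushSh f).obj (CohProp.constSh X M))) := by
  obtain ⟨U, hU, J, _, idx, hidx, hconn⟩ := K145.GeomPart.exists_idx f
  obtain ⟨c⟩ := K145.PushChart.exists_chart f M hcp U idx hidx hconn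
  have hUe : Etale U.hom := U.prop
  refine ⟨⟨Set.range U.hom, U.hom.isOpenMap.isOpen_range⟩, ?_, ?_⟩
  · obtain ⟨u⟩ := hU
    exact ⟨U.hom u, u, rfl⟩
  · refine K990.CohProp.isFinLocConstSet_of_charts _ fun x => ?_
    obtain ⟨u, hu⟩ := x.2
    obtain ⟨w, -, hw⟩ := Scheme.Pullback.exists_preimage_pullback (f := U.hom)
      (g := Scheme.Opens.ι (⟨Set.range U.hom, U.hom.isOpenMap.isOpen_range⟩ : S.Opens)) u x hu
    exact ⟨_, w, hw, J → M, inferInstance, ⟨K145.ChartStk.chartPull _ c⟩⟩

theorem main : ∀ {X S : Scheme.{u}} [IsNoetherian S] [IrreducibleSpace S] (f : X ⟶ S)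
    [LocallyOfFiniteType f] [QuasiCompact f] (M : Type (u + 1)) [Finite M]
    (_ : CohProp.IsCohPropSet (𝟙 S) f (CohProp.constSh X M)),
    ∃ V : S.Opens, (V : Set S).Nonempty ∧ CohProp.IsFinLocConstSet
      ((EtDesc.pullSh V.ι).obj ((EtDesc.pushSh f).obj (CohProp.constSh X M))) :=
  fun f _ _ M _ hcp => main' f M hcp

end K145.NodeD
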