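import Groth.Agent.CohProp.K145.ChartStk

/-!
# A chart of the direct image of a constant sheaf

`exists_chart`: let `(M_X, f)` be cohomologically proper, `U` étale over the base, and `X_U = ⊔ P_j` a finite
partition into open pieces all of whose geometric fibres over `U` are connected. Then `M^J → (f_* M)|_U` is a chart.
-/

set_option autoImplicit false
universe u

open CategoryTheory CategoryTheory.Limits AlgebraicGeometry Opposite

namespace K145.PushChart

open EtDesc Groth.Agent.Sga4A.EtStalk Groth.Agent.Sga4A.PbcAb Groth.Agent.Etbc.H235.BCSets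
  Groth.Agent.Etbc.H235.BCSec K145.ChartStk
open K990.CohProp (Chart cMap cPre constChart)

section Const

variable (X : Scheme.{u}) (M : Type (u + 1))

/-- Constant sections. -/
noncomputable def cs (W : X.Etale) (m : M) : sect (CohProp.constSh X M) W := (constChart X M W).φ m

variable {X M}

theorem cs_res {W T : X.Etale} (k : T ⟶ W) (m : M) :
    (CohProp.constSh X M).obj.map k.op (cs X M W m) = cs X M T m :=
  (ConcreteCategory.congr_hom ((cMap X M).naturality k.op) (m : (cPre X M).obj (op W))).symm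

theorem cs_germ_bijective (W : X.Etale) (Ω : Type u) [Field Ω] [IsSepClosed Ω]
    (l : Spec (.of Ω) ⟶ W.left) (ξ : Spec (.of Ω) ⟶ X) (hl : l ≫ W.hom = ξ) :
    Function.Bijective (fun m => germ (CohProp.constSh X M) l hl (cs X M W m)) :=
  germ_bijective (constChart X M W) Ω l ξ hl

theorem isLC_constSh : K548.LC.IsLC (CohProp.constSh X M) := fun x =>
  ⟨EtCoh.top X, x, rfl, K548.LC.isLC_constSh M (EtCoh.top X)⟩

theorem exists_mem_agree {W : X.Etale} (s : sect (CohProp.constSh X M) W) (x : W.left) :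
    ∃ m, x ∈ agree (CohProp.constSh X M) s (cs X M W m) := by
  obtain ⟨Ω, _, _, l, rfl⟩ := exists_geomPoint W.left x
  obtain ⟨m, hm⟩ := (cs_germ_bijective (M := M) W Ω l _ rfl).2 (germ _ l rfl s)
  exact ⟨m, (mem_agree_iff _ _ _ l).2 hm.symm⟩

/-- The section of the constant sheaf attached to a locally constant function. -/
theorem exists_glue (W : X.Etale) {J : Type u} (idx : W.left → J) (hidx : ∀ j, IsOpen (idx ⁻¹' {j}))
    (a : J → M) : ∃ s : sect (CohProp.constSh X M) W, ∀ {Ω : Type u} [Field Ω] [IsSepClosed Ω]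
      (l : Spec (.of Ω) ⟶ W.left) (ξ : Spec (.of Ω) ⟶ X) (h : l ≫ W.hom = ξ),
      germ (CohProp.constSh X M) l h s =
        germ (CohProp.constSh X M) l h (cs X M W (a (idx (l default)))) := by
  let γ : Fam (CohProp.constSh X M) W.hom :=
    { val := fun {Ω} _ _ η ξ h => germ (CohProp.constSh X M) η h (cs X M W (a (idx (η default))))
      rep := by
        intro y
        let D : W.left.Opens := ⟨idx ⁻¹' {idx y}, hidx _⟩
        refine ⟨(D : Scheme.{u}), D.ι, inferInstance, ⟨y, rfl⟩, rfl, W, D.ι, rfl,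
          cs X M W (a (idx y)), ?_⟩
        intro Ω _ _ ζ ξ h h'
        have h1 : (ζ ≫ D.ι) default ∈ D := by
          rw [Scheme.Hom.comp_apply]
          exact (ζ default).2
        have h2 : idx ((ζ ≫ D.ι) default) = idx y := h1
        rw [h2] }
  obtain ⟨s, hs⟩ := Fam.exists_sect γ
  exact ⟨s, fun l ξ h => hs l ξ h⟩

end Const

variable {X S : Scheme.{u}} (f : X ⟶ S)

theorem fibInc_bc_map {Ω : Type u} [Field Ω] {ξ : Spec (.of Ω) ⟶ S} {U T : S.Etale} (q : T ⟶ U)
    (n : Spec (.of Ω) ⟶ T.left) (hn : n ≫ T.hom = ξ) (l : Spec (.of Ω) ⟶ U.left)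
    (hl : l ≫ U.hom = ξ) (h : n ≫ q.left = l) :
    fibInc f ξ n hn ≫ ((EtCoh.bc f).map q).left = fibInc f ξ l hl := by
  apply hom_ext_bc
  · rw [Category.assoc, bc_map_fst, fibInc_fst_assoc, fibInc_fst, h]
  · rw [Category.assoc, bc_map_hom, fibInc_hom, fibInc_hom]

/-- **Charts of the direct image of a constant sheaf.** -/
theorem exists_chart (M : Type (u + 1))
    (hcp : CohProp.IsCohPropSet (𝟙 S) f (CohProp.constSh X M)) (U : S.Etale) {J : Type u}
    (idx : ((EtCoh.bc f).obj U).left → J) (hidx : ∀ j, IsOpen (idx ⁻¹' {j}))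
    (hconn : ∀ (Ω : Type u) [Field Ω] [IsSepClosed Ω] (τ : Spec (.of Ω) ⟶ U.left)
      (ξ : Spec (.of Ω) ⟶ S) (hl : τ ≫ U.hom = ξ) (j : J),
      _root_.IsConnected (fibInc f ξ τ hl ⁻¹' (idx ⁻¹' {j}))) :
    Nonempty (Chart ((pushSh f).obj (CohProp.constSh X M)) U (J → M)) := by
  choose φ hφ using fun a : J → M => exists_glue ((EtCoh.bc f).obj U) idx hidx a
  refine ⟨chartOfGerm (fun a => toPush f (CohProp.constSh X M) (φ a)) ?_⟩
  intro Ω _ _ τ ξ hl
  constructor
  · intro a a' haa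
    funext j
    obtain ⟨p, hp⟩ := (hconn Ω τ ξ hl j).nonempty
    obtain ⟨Ω', _, _, ζ, rfl⟩ := exists_geomPoint _ p
    have h1 := germ_eq_of_germ_push_eq f (CohProp.constSh X M) τ hl (φ a) (φ a') haa
      (ζ ≫ pullback.snd f ξ) (ζ ≫ fibInc f ξ τ hl) (by
        rw [Category.assoc, fibInc_fst, Category.assoc]) _ rfl
    rw [hφ a, hφ a'] at h1
    have h2 : idx ((ζ ≫ fibInc f ξ τ hl) default) = j := by
      rw [Scheme.Hom.comp_apply]
      exact hp
    rw [h2] at h1
    exact (cs_germ_bijective _ _ _ _ _).1 h1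
  · intro σ
    obtain ⟨T₀, l₀, hl₀, s₀, rfl⟩ := exists_germ _ σ
    obtain ⟨T, p, q, n, hn, hnp, hnq⟩ := exists_common_nhd l₀ hl₀ τ hl
    obtain ⟨s₀, rfl⟩ := exists_toPush f (CohProp.constSh X M) s₀
    let s : sect (CohProp.constSh X M) ((EtCoh.bc f).obj T) :=
      (CohProp.constSh X M).obj.map ((EtCoh.bc f).map p).op s₀
    choose z hz using fun j => (hconn Ω τ ξ hl j).nonempty
    choose m hm using fun j => exists_mem_agree s (fibInc f ξ n hn (z j))
    have hsub : ∀ j, fibInc f ξ τ hl ⁻¹' (idx ⁻¹' {j}) ⊆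
        fibInc f ξ n hn ⁻¹' (agree (CohProp.constSh X M) s (cs X M _ (m j))) := by
      intro j
      refine (hconn Ω τ ξ hl j).isPreconnected.subset_isClopen ?_ ⟨z j, hz j, hm j⟩
      exact ⟨(K548.LC.isClosed_agree isLC_constSh _ _).preimage (fibInc f ξ n hn).continuous,
        (isOpen_agree _ _ _).preimage (fibInc f ξ n hn).continuous⟩
    refine ⟨m, ?_⟩
    simp only
    rw [← germ_res' _ p n hn l₀ hl₀ hnp, ← germ_res' _ q n hn τ hl hnq, toPush_res, toPush_res]
    refine germ_push_eq_of_cohProp f hcp n hn _ _ ?_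
    intro Ω' _ _ ζ ρ hρ
    have e1 : (ζ ≫ fibInc f ξ n hn) ≫ ((EtCoh.bc f).map q).left = ζ ≫ fibInc f ξ τ hl := by
      rw [Category.assoc, fibInc_bc_map f q n hn τ hl hnq]
    have hρ' : (ζ ≫ fibInc f ξ τ hl) ≫ ((EtCoh.bc f).obj U).hom = ρ := by
      rw [← hρ, Category.assoc, Category.assoc, fibInc_hom, fibInc_hom]
    rw [germ_res' _ ((EtCoh.bc f).map q) (ζ ≫ fibInc f ξ n hn) hρ _ hρ' e1, hφ m]
    have h3 : (ζ ≫ fibInc f ξ n hn) default ∈ agree (CohProp.constSh X M) s
        (cs X M _ (m (idx ((ζ ≫ fibInc f ξ τ hl) default)))) := by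
      rw [Scheme.Hom.comp_apply]
      exact hsub _ (congrArg idx (Scheme.Hom.comp_apply ζ (fibInc f ξ τ hl) default).symm)
    have h4 := (mem_agree_iff' _ _ _ (ζ ≫ fibInc f ξ n hn) hρ).1 h3
    rw [h4, ← cs_res ((EtCoh.bc f).map q),
      germ_res' _ ((EtCoh.bc f).map q) (ζ ≫ fibInc f ξ n hn) hρ _ hρ' e1]

end K145.PushChart
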